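import Groth.Agent.FPLocal.GenFP
import Groth.Agent.FPLocal.Basis
import Groth.Agent.FPLocal.OpensPt
import Groth.Prelude.Def_ModSite

/-!
# Closed embeddings: opens, sections and pushforwards of modules
-/

set_option linter.style.haveILetI false
set_option linter.unusedSectionVars false
set_option backward.isDefEq.respectTransparency false
set_option backward.isDefEq.respectTransparency.types false

universe u

open CategoryTheory Limits Opposite TopologicalSpace

noncomputable section

namespace Groth.Agent.ClosedEmb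

open FPLocal

variable {Z X : TopCat.{u}} (i : Z ⟶ X)

/-- The preimage of an open. -/
abbrev pre (U : Opens X) : Opens Z := (Opens.map i).obj U

variable {i} (hi : Topology.IsClosedEmbedding i)

/-- The largest open with given preimage. -/
def ext (W : Opens Z) : Opens X := ⟨(i '' (W : Set Z)ᶜ)ᶜ, (hi.isClosedMap _ W.2.isClosed_compl).isOpen_compl⟩

theorem mem_ext {W : Opens Z} {x : X} : x ∈ ext hi W ↔ ∀ z, i z = x → z ∈ W :=
  ⟨fun h z hz => by_contra fun hc => h ⟨z, hc, hz⟩, fun h ⟨z, hc, hz⟩ => hc (h z hz)⟩

theorem pre_ext (W : Opens Z) : pre i (ext hi W) = W := by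
  ext z
  exact ⟨fun h => (mem_ext hi).1 h z rfl,
    fun h => (mem_ext hi).2 fun z' hz' => hi.injective hz' ▸ h⟩

theorem ext_mono {W W' : Opens Z} (h : W ≤ W') : ext hi W ≤ ext hi W' :=
  fun _ hx => (mem_ext hi).2 fun z hz => h ((mem_ext hi).1 hx z hz)

theorem le_ext_pre (U : Opens X) : U ≤ ext hi (pre i U) :=
  fun _ hx => (mem_ext hi).2 fun z hz => show i z ∈ U from hz.symm ▸ hx

/-- The complement of the image. -/
def outside : Opens X := ⟨(Set.range i)ᶜ, hi.isClosed_range.isOpen_compl⟩

theorem mem_outside {x : X} : x ∈ outside hi ↔ x ∉ Set.range i := Iff.rfl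

theorem pre_eq_bot {U : Opens X} (h : U ≤ outside hi) : pre i U = ⊥ :=
  eq_bot_iff.2 fun z hz => absurd (Set.mem_range_self z) (h hz)

theorem cases_point (x : X) : x ∈ outside hi ∨ ∃ z, i z = x := by
  by_cases h : x ∈ Set.range i
  · exact Or.inr h
  · exact Or.inl h

variable {O : TopCat.Sheaf CommRingCat.{u} Z} (F : ModSite.Mod O)

/-- Sections over the empty open vanish. -/
theorem eq_zero_of_empty {W : Opens Z} (hW : W = ⊥) (m : ModSite.sect F W) : m = 0 := by
  refine eq_of_locally (M := F) (locally_of_near (fun A B k g h => ?_) fun x hx => ?_)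
  · rw [mres_comp', h, ← mres_comp']
  · rw [hW] at hx
    exact hx.elim

theorem one_eq_zero_of_empty {W : Opens Z} (hW : W = ⊥) : (1 : O.obj.obj (op W)) = 0 :=
  eq_zero_of_empty (ModSite.unit O) hW (1 : O.obj.obj (op W))

variable (O_X : TopCat.Sheaf CommRingCat.{u} X)
  (c : O_X ⟶ ((TopologicalSpace.Opens.map i).sheafPushforwardContinuous CommRingCat.{u}
      (Opens.grothendieckTopology X) (Opens.grothendieckTopology Z)).obj O)

/-- The pushforward of a module. -/
abbrev pushF : ModSite.Mod O_X := (ModSite.RMor.ofFlat (TopologicalSpace.Opens.map i) c).push.obj F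

/-- The comorphism on sections. -/
def cmap (U : Opens X) : O_X.obj.obj (op U) →+* O.obj.obj (op (pre i U)) := (c.hom.app (op U)).hom

theorem ores_cmap {U V : Opens X} (g : V ⟶ U) (r : O_X.obj.obj (op U)) :
    ores O ((Opens.map i).map g) (cmap O_X c U r) = cmap O_X c V (ores O_X g r) :=
  (NatTrans.naturality_apply c.hom g.op r).symm

/-- A section of the pushforward as a section of the module. -/
def sectEquiv (U : Opens X) : ModSite.sect (pushF F O_X c) U ≃+ ModSite.sect F (pre i U) :=
  AddEquiv.refl _

theorem sectEquiv_smul {U : Opens X} (r : O_X.obj.obj (op U)) (m : ModSite.sect (pushF F O_X c) U) :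
    sectEquiv F O_X c U ((show (ModSite.ringSh O_X).obj.obj (op U) from r) • m) =
      (show (ModSite.ringSh O).obj.obj (op (pre i U)) from cmap O_X c U r) •
        sectEquiv F O_X c U m := rfl

theorem sectEquiv_mres {U V : Opens X} (g : V ⟶ U) (m : ModSite.sect (pushF F O_X c) U) :
    sectEquiv F O_X c V (mres (pushF F O_X c) g.op m) =
      mres F ((Opens.map i).map g).op (sectEquiv F O_X c U m) := rfl

theorem sectEquiv_comb {U : Opens X} {I : Type u} [Fintype I] (a : I → O_X.obj.obj (op U))
    (s : I → ModSite.sect (pushF F O_X c) U) :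
    sectEquiv F O_X c U (comb O_X (pushF F O_X c) a s) =
      comb O F (fun l => cmap O_X c U (a l)) fun l => sectEquiv F O_X c U (s l) :=
  map_sum (sectEquiv F O_X c U) _ _

/-- Functions on the closed subspace lift locally. -/
theorem near_lift (hc : Sheaf.IsLocallySurjective c) {U : Opens X}
    (a : O.obj.obj (op (pre i U))) {x : X} (hx : x ∈ U) :
    Near x U fun V g => ∃ b : O_X.obj.obj (op V),
      cmap O_X c V b = ores O ((Opens.map i).map g) a := by
  obtain ⟨V, g, ⟨b, hb⟩, hxV⟩ :=
    (Opens.mem_grothendieckTopology X).1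
      (Presheaf.imageSieve_mem (Opens.grothendieckTopology X) c.hom (U := op U) a) x hx
  exact ⟨V, g, hxV, b, hb⟩

end Groth.Agent.ClosedEmb
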