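import Groth.Agent.CechOpenLib.ClosedPush
import Groth.Agent.ClosedEmb.Basic
import Mathlib.Topology.Sheaves.Skyscraper

/-!
# Abelian sheaves along a closed embedding
-/

set_option linter.style.haveILetI false
set_option linter.unusedSectionVars false
set_option backward.isDefEq.respectTransparency false
set_option backward.isDefEq.respectTransparency.types false

universe u

open CategoryTheory Limits Opposite TopologicalSpace

noncomputable section

namespace Groth.Agent.ClosedEmb

variable {Z X : TopCat.{u}} {i : Z ⟶ X} (hi : Topology.IsClosedEmbedding i)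

/-- The inclusion of the preimage of the largest open with given trace. -/
def preExtLE (W : Opens Z) : pre i (ext hi W) ⟶ W := homOfLE (pre_ext hi W).le

/-- The inclusion in the preimage of the largest open with given trace. -/
def lePreExt (W : Opens Z) : W ⟶ pre i (ext hi W) := homOfLE (pre_ext hi W).ge

theorem map_back {P : (Opens Z)ᵒᵖ ⥤ AddCommGrpCat.{u}} {U V : Opens Z} (f : V ⟶ U) (g : U ⟶ V) :
    P.map f.op ≫ P.map g.op = 𝟙 _ := by
  rw [← P.map_comp, Subsingleton.elim (f.op ≫ g.op) (𝟙 (op U)), P.map_id]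

theorem map_eq {P : (Opens Z)ᵒᵖ ⥤ AddCommGrpCat.{u}} {U V : Opens Z} (f g : V ⟶ U) :
    P.map f.op = P.map g.op := by rw [Subsingleton.elim f g]

include hi

theorem faithful_pushAb : (CohTop.push i).Faithful := by
  refine ⟨fun {F G} f g h => ?_⟩
  ext ⟨W⟩ : 3
  have e : f.hom.app (op (pre i (ext hi W))) = g.hom.app (op (pre i (ext hi W))) :=
    congrArg (fun φ : (CohTop.push i).obj F ⟶ (CohTop.push i).obj G => φ.hom.app (op (ext hi W))) h
  have e₁ := f.hom.naturality (lePreExt hi W).op
  have e₂ := g.hom.naturality (lePreExt hi W).op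
  have e₃ : F.obj.map (lePreExt hi W).op ≫ f.hom.app (op W) =
      F.obj.map (lePreExt hi W).op ≫ g.hom.app (op W) := by
    rw [e₁, e₂, e]
  exact (congrArg (fun k => F.obj.map (preExtLE hi W).op ≫ k) e₃ |> fun e => by
    rwa [← Category.assoc, ← Category.assoc, map_back, Category.id_comp, Category.id_comp] at e)

theorem full_pushAb : (CohTop.push i).Full := by
  refine ⟨fun {F G} φ => ?_⟩
  let app : ∀ W : Opens Z, F.obj.obj (op W) ⟶ G.obj.obj (op W) := fun W =>
    F.obj.map (preExtLE hi W).op ≫ (φ.hom.app (op (ext hi W))) ≫ G.obj.map (lePreExt hi W).op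
  have hφ : ∀ {U V : Opens X} (g : V ⟶ U),
      F.obj.map ((Opens.map i).map g).op ≫ φ.hom.app (op V) =
        φ.hom.app (op U) ≫ G.obj.map ((Opens.map i).map g).op := fun g => φ.hom.naturality g.op
  let ψ : F ⟶ G := ⟨{
    app := fun W => app W.unop
    naturality := by
      intro W W' k
      show F.obj.map k ≫ F.obj.map _ ≫ φ.hom.app (op (ext hi W'.unop)) ≫ G.obj.map _ =
        (F.obj.map _ ≫ φ.hom.app (op (ext hi W.unop)) ≫ G.obj.map _) ≫ G.obj.map k
      let g : ext hi W'.unop ⟶ ext hi W.unop := homOfLE (ext_mono hi k.unop.le)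
      have h₁ : F.obj.map k ≫ F.obj.map (preExtLE hi W'.unop).op =
          F.obj.map (preExtLE hi W.unop).op ≫ F.obj.map ((Opens.map i).map g).op := by
        rw [← F.obj.map_comp, ← F.obj.map_comp]
        exact congrArg F.obj.map (Subsingleton.elim _ _)
      rw [← Category.assoc, h₁, Category.assoc, ← Category.assoc (F.obj.map ((Opens.map i).map g).op),
        hφ g, Category.assoc, Category.assoc, Category.assoc, ← G.obj.map_comp, ← G.obj.map_comp]
      congr 3 }⟩
  refine ⟨ψ, ?_⟩
  ext ⟨U⟩ : 3
  show F.obj.map (preExtLE hi (pre i U)).op ≫ φ.hom.app (op (ext hi (pre i U))) ≫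
    G.obj.map (lePreExt hi (pre i U)).op = φ.hom.app (op U)
  have e := hφ (homOfLE (le_ext_pre hi U))
  rw [map_eq (lePreExt hi (pre i U)) ((Opens.map i).map (homOfLE (le_ext_pre hi U))), ← e,
    ← Category.assoc, map_eq ((Opens.map i).map (homOfLE (le_ext_pre hi U)))
      (lePreExt hi (pre i U)), map_back]
  exact Category.id_comp _

theorem isIso_counitAb : IsIso (TopCat.Sheaf.pullbackPushforwardAdjunction AddCommGrpCat.{u} i).counit := by
  haveI := faithful_pushAb hi
  haveI := full_pushAb hi
  infer_instance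

omit hi

/-- The stalk functor on sheaves. -/
abbrev stalkF {Y : TopCat.{u}} (y : Y) : CohTop.Ab Y ⥤ AddCommGrpCat.{u} :=
  TopCat.Sheaf.forget AddCommGrpCat.{u} Y ⋙ TopCat.Presheaf.stalkFunctor AddCommGrpCat.{u} y

open Classical in
/-- The pushforward of a skyscraper sheaf is a skyscraper sheaf. -/
def skyPushIso (i : Z ⟶ X) (z : Z) :
    (skyscraperSheafFunctor z : AddCommGrpCat.{u} ⥤ _) ⋙ CohTop.push i ≅
      skyscraperSheafFunctor (i z) :=
  NatIso.ofComponents (fun A => Iso.refl _) fun f => by
    rw [Iso.refl_hom, Iso.refl_hom, Category.comp_id, Category.id_comp]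
    rfl

open Classical in
/-- Stalks of the inverse image. -/
def pullStalkIso (i : Z ⟶ X) (z : Z) : CohTop.pull i ⋙ stalkF z ≅ stalkF (i z) :=
  Adjunction.leftAdjointUniq
    (((TopCat.Sheaf.pullbackPushforwardAdjunction AddCommGrpCat.{u} i).comp
      (stalkSkyscraperSheafAdjunction z)).ofNatIsoRight (skyPushIso i z))
    (stalkSkyscraperSheafAdjunction (i z))

include hi

theorem isZero_stalk_push (F : CohTop.Ab Z) {x : X} (hx : x ∉ Set.range i) :
    IsZero (CohTop.stalk ((CohTop.push i).obj F) x) := by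
  haveI : Subsingleton (CohTop.stalk ((CohTop.push i).obj F) x) := by
    refine ⟨fun a b => ?_⟩
    suffices ∀ t : CohTop.stalk ((CohTop.push i).obj F) x, t = 0 by rw [this a, this b]
    intro t
    obtain ⟨U, hU, s, rfl⟩ := TopCat.Presheaf.exists_germ_eq _ t
    let V : Opens X := U ⊓ outside hi
    rw [← TopCat.Presheaf.germ_res_apply _ (homOfLE inf_le_left : V ⟶ U) x ⟨hU, hx⟩ s]
    refine Eq.trans (congrArg _ ?_) (map_zero _)
    exact CechOpenLib.subsingleton_sections_bot F (W := pre i V) (pre_eq_bot hi inf_le_right)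
      (((CohTop.push i).obj F).obj.map (homOfLE inf_le_left : V ⟶ U).op s)
  exact AddCommGrpCat.isZero_of_subsingleton _

theorem isIso_unit_of_stalks (G : CohTop.Ab X)
    (h : ∀ x : X, x ∉ Set.range i → IsZero (CohTop.stalk G x)) :
    IsIso ((TopCat.Sheaf.pullbackPushforwardAdjunction AddCommGrpCat.{u} i).unit.app G) := by
  haveI := isIso_counitAb hi
  let A := TopCat.Sheaf.pullbackPushforwardAdjunction AddCommGrpCat.{u} i
  haveI : ∀ x : X, IsIso ((TopCat.Presheaf.stalkFunctor AddCommGrpCat.{u} x).map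
      (A.unit.app G).hom) := fun x => by
    by_cases hx : x ∈ Set.range i
    · obtain ⟨z, rfl⟩ := hx
      haveI : IsIso (𝟙 ((CohTop.pull i).obj G)) := inferInstance
      haveI : IsIso ((CohTop.pull i).map (A.unit.app G)) :=
        IsIso.of_isIso_fac_right (A.left_triangle_components G)
      haveI : IsIso ((CohTop.pull i ⋙ stalkF z).map (A.unit.app G)) :=
        Functor.map_isIso (stalkF z) ((CohTop.pull i).map (A.unit.app G))
      exact (NatIso.isIso_map_iff (pullStalkIso i z) (A.unit.app G)).1 inferInstance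
    · exact Limits.isIso_of_source_target_iso_zero _ (h x hx).isoZero
        (isZero_stalk_push hi _ hx).isoZero
  exact TopCat.Presheaf.isIso_of_stalkFunctor_map_iso _

theorem essImage_pushAb_iff (G : CohTop.Ab X) :
    (CohTop.push i).essImage G ↔ ∀ x : X, x ∉ Set.range i → IsZero (CohTop.stalk G x) := by
  constructor
  · rintro ⟨F, ⟨e⟩⟩ x hx
    exact (isZero_stalk_push hi F hx).of_iso ((stalkF x).mapIso e.symm)
  · intro h
    haveI := isIso_unit_of_stalks hi G h
    exact ⟨_, ⟨(asIso ((TopCat.Sheaf.pullbackPushforwardAdjunction AddCommGrpCat.{u} i).unit.app G)).symm⟩⟩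

theorem preservesFiniteColimits_pushAb : PreservesFiniteColimits (CohTop.push i) := by
  haveI : PreservesFiniteLimits (CohTop.push i) :=
    haveI : PreservesLimitsOfSize.{0, 0} (CohTop.push i) :=
      (TopCat.Sheaf.pullbackPushforwardAdjunction AddCommGrpCat.{u} i).rightAdjoint_preservesLimits
    inferInstance
  refine (CohTop.push i).preservesFiniteColimits_iff_forall_exact_map_and_epi.2 fun S hS => ?_
  haveI := hS.epi_g
  refine ⟨?_, CechOpenLib.epi_push_map i hi S.g⟩
  haveI := hS.mono_f
  exact ((CohTop.push i).preservesFiniteLimits_iff_forall_exact_map_and_mono.1 inferInstance S hS).1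

end Groth.Agent.ClosedEmb
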