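import Groth.Agent.ClosedEmb.Hom

/-!
# Modules killed by the ideal of a closed subspace
-/

set_option linter.style.haveILetI false
set_option linter.unusedSectionVars false
set_option backward.isDefEq.respectTransparency false
set_option backward.isDefEq.respectTransparency.types false

universe u

open CategoryTheory Limits Opposite TopologicalSpace

noncomputable section

namespace Groth.Agent.ClosedEmb

open FPLocal

variable {Z X : TopCat.{u}} {i : Z ⟶ X} (hi : Topology.IsClosedEmbedding i)
  {O : TopCat.Sheaf CommRingCat.{u} Z}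
  {O_X : TopCat.Sheaf CommRingCat.{u} X}
  (c : O_X ⟶ ((TopologicalSpace.Opens.map i).sheafPushforwardContinuous CommRingCat.{u}
      (Opens.grothendieckTopology X) (Opens.grothendieckTopology Z)).obj O)

/-- `G` is killed by the kernel of the comorphism. -/
def Killed (G : ModSite.Mod O_X) : Prop :=
  ∀ (U : Opens X) (a : O_X.obj.obj (op U)), cmap O_X c U a = 0 →
    ∀ s : ModSite.sect G U, (show (ModSite.ringSh O_X).obj.obj (op U) from a) • s = 0

variable {c} {G : ModSite.Mod O_X} (hG : Killed c G)

include hG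

theorem Killed.smul_eq {U : Opens X} {a a' : O_X.obj.obj (op U)}
    (h : cmap O_X c U a = cmap O_X c U a') (s : ModSite.sect G U) :
    (show (ModSite.ringSh O_X).obj.obj (op U) from a) • s =
      (show (ModSite.ringSh O_X).obj.obj (op U) from a') • s := by
  have e := hG U (a - a') (by rw [map_sub, h, sub_self]) s
  exact sub_eq_zero.1 ((sub_smul _ _ s).symm.trans e)

theorem Killed.eq_zero {U : Opens X} (hU : pre i U = ⊥) (s : ModSite.sect G U) : s = 0 := by
  have e := hG U 1 (by rw [map_one]; exact one_eq_zero_of_empty hU) s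
  exact (one_smul _ s).symm.trans e

include hi

/-- Restriction to an open with the same trace on the closed subspace is bijective. -/
theorem Killed.mres_bijective {U U' : Opens X} (g : U ⟶ U') (h : pre i U' ≤ pre i U) :
    Function.Bijective (mres G g.op : ModSite.sect G U' → ModSite.sect G U) := by
  constructor
  · intro a b hab
    refine eq_of_locally (M := G) (locally_of_near (fun A B l k hk => ?_) fun x hx => ?_)
    · rw [mres_comp', hk, ← mres_comp']
    rcases cases_point hi x with hxo | ⟨z, rfl⟩
    · exact ⟨U' ⊓ outside hi, homOfLE inf_le_left, ⟨hx, hxo⟩,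
        (hG.eq_zero (pre_eq_bot hi inf_le_right) _).trans
          (hG.eq_zero (pre_eq_bot hi inf_le_right) _).symm⟩
    · exact ⟨U, g, h hx, hab⟩
  · intro s
    classical
    let S : Sieve U' :=
      { arrows := fun V _ => V ≤ U ∨ pre i V = ⊥
        downward_closed := fun {V W} f hf k => hf.imp (fun h => k.le.trans h)
          fun h => le_bot_iff.1 (((Opens.map i).map k).le.trans_eq h) }
    have hS : S ∈ Opens.grothendieckTopology X U' := fun x hx => by
      rcases cases_point hi x with hxo | ⟨z, rfl⟩
      · exact ⟨U' ⊓ outside hi, homOfLE inf_le_left, Or.inr (pre_eq_bot hi inf_le_right), hx, hxo⟩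
      · exact ⟨U, g, Or.inl le_rfl, h hx⟩
    let x : Presieve.FamilyOfElements (G.val.presheaf ⋙ forget AddCommGrpCat.{u}) S.arrows :=
      fun V f _ => if hV : V ≤ U then mres G (homOfLE hV).op s else (0 : ModSite.sect G V)
    have hx : x.Compatible := by
      intro V₁ V₂ W g₁ g₂ f₁ f₂ h₁ h₂ _
      show mres G g₁.op (x f₁ h₁) = mres G g₂.op (x f₂ h₂)
      simp only [x]
      split_ifs with a b b
      · rw [← mres_comp', ← mres_comp']
        exact mres_eq G _ _ _
      · have e : pre i W = ⊥ := le_bot_iff.1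
          (((Opens.map i).map g₂).le.trans_eq (h₂.resolve_left b))
        exact (hG.eq_zero e _).trans (hG.eq_zero e _).symm
      · have e : pre i W = ⊥ := le_bot_iff.1
          (((Opens.map i).map g₁).le.trans_eq (h₁.resolve_left a))
        exact (hG.eq_zero e _).trans (hG.eq_zero e _).symm
      · rw [map_zero, map_zero]
    refine ⟨(isSheafType G S hS).amalgamate x hx, ?_⟩
    refine ((isSheafType G S hS).valid_glue hx g (Or.inl le_rfl)).trans ?_
    show x g (Or.inl le_rfl) = s
    simp only [x, dif_pos le_rfl]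
    exact (congrArg (fun f => mres G f s) (Subsingleton.elim _ (𝟙 (op U)))).trans (mres_id _ _)

variable (c) (G) in
omit hG in
/-- `n` is the product of `r` and `m`. -/
def IsAct {W : Opens Z} (r : O.obj.obj (op W)) (m n : ModSite.sect G (ext hi W)) : Prop :=
  ∀ (U : Opens X) (g : U ⟶ ext hi W) (b : O_X.obj.obj (op U)),
    cmap O_X c U b = ores O (homOfLE (pre_le_of_le_ext hi g.le)) r →
      mres G g.op n = (show (ModSite.ringSh O_X).obj.obj (op U) from b) • mres G g.op m

omit hG in
theorem locally_lift (hc : Sheaf.IsLocallySurjective c) {W : Opens Z} (r : O.obj.obj (op W)) :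
    Locally (Opens.grothendieckTopology X) (ext hi W) fun U g => ∃ b : O_X.obj.obj (op U),
      cmap O_X c U b = ores O (homOfLE (pre_le_of_le_ext hi g.le)) r := by
  refine locally_of_near (fun A B k g hg => ?_) fun x hx => ?_
  · obtain ⟨b, hb⟩ := hg
    refine ⟨ores O_X k b, ?_⟩
    rw [← ores_cmap, hb, ← ores_comp]
    rfl
  · obtain ⟨U, g, hU, b, hb⟩ :=
      near_lift O_X c hc (ores O (homOfLE (pre_le_of_le_ext hi le_rfl)) r) hx
    refine ⟨U, g, hU, b, ?_⟩
    rw [hb, ← ores_comp]
    rfl

theorem existsUnique_isAct (hc : Sheaf.IsLocallySurjective c) {W : Opens Z}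
    (r : O.obj.obj (op W)) (m : ModSite.sect G (ext hi W)) :
    ∃! n, IsAct hi c G r m n := by
  obtain ⟨S, hS, h⟩ := locally_lift hi (c := c) hc r
  have hwell : ∀ {U : Opens X} (g : U ⟶ ext hi W) (b b' : O_X.obj.obj (op U)),
      cmap O_X c U b = ores O (homOfLE (pre_le_of_le_ext hi g.le)) r →
      cmap O_X c U b' = ores O (homOfLE (pre_le_of_le_ext hi g.le)) r →
      (show (ModSite.ringSh O_X).obj.obj (op U) from b) • mres G g.op m =
        (show (ModSite.ringSh O_X).obj.obj (op U) from b') • mres G g.op m :=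
    fun g b b' hb hb' => hG.smul_eq (hb.trans hb'.symm) _
  have hdown : ∀ {U V : Opens X} (k : V ⟶ U) (g : U ⟶ ext hi W) (b : O_X.obj.obj (op U)),
      cmap O_X c U b = ores O (homOfLE (pre_le_of_le_ext hi g.le)) r →
      cmap O_X c V (ores O_X k b) = ores O (homOfLE (pre_le_of_le_ext hi (k ≫ g).le)) r ∧
      mres G k.op ((show (ModSite.ringSh O_X).obj.obj (op U) from b) • mres G g.op m) =
        (show (ModSite.ringSh O_X).obj.obj (op V) from ores O_X k b) • mres G (k ≫ g).op m := by
    intro U V k g b hb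
    refine ⟨?_, ?_⟩
    · rw [← ores_cmap, hb, ← ores_comp]
      rfl
    · rw [mres_smul, ← mres_comp']
      rfl
  let x : Presieve.FamilyOfElements (G.val.presheaf ⋙ forget AddCommGrpCat.{u}) S.arrows :=
    fun U g hg => (show (ModSite.ringSh O_X).obj.obj (op U) from (h g hg).choose) • mres G g.op m
  have hx : x.Compatible := by
    intro V₁ V₂ V g₁ g₂ f₁ f₂ h₁ h₂ e
    show mres G g₁.op (x f₁ h₁) = mres G g₂.op (x f₂ h₂)
    obtain ⟨e₁, e₁'⟩ := hdown g₁ f₁ _ (h f₁ h₁).choose_spec
    obtain ⟨e₂, e₂'⟩ := hdown g₂ f₂ _ (h f₂ h₂).choose_spec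
    refine e₁'.trans (Eq.trans ?_ e₂'.symm)
    rw [← mres_eq G (g₁ ≫ f₁) (g₂ ≫ f₂) m]
    exact hwell (g₁ ≫ f₁) _ _ e₁ e₂
  refine ⟨(isSheafType G S hS).amalgamate x hx, fun U g b hb => ?_, fun n hn => ?_⟩
  · refine eq_of_locally (M := G) ⟨S.pullback g,
      (Opens.grothendieckTopology X).pullback_stable g hS, fun V k hk => ?_⟩
    refine Eq.trans (mres_comp' k g _).symm ?_
    refine Eq.trans ?_ (hdown k g b hb).2.symm
    exact ((isSheafType G S hS).valid_glue hx (k ≫ g) hk).trans
      (hwell _ _ _ (h _ hk).choose_spec (hdown k g b hb).1)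
  · refine eq_of_locally (M := G) ⟨S, hS, fun U g hg => ?_⟩
    exact (hn U g _ (h g hg).choose_spec).trans ((isSheafType G S hS).valid_glue hx g hg).symm

end Groth.Agent.ClosedEmb
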