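import Groth.Agent.ClosedEmb.Act

/-!
# The essential image of the pushforward along a closed embedding
-/

set_option linter.style.haveILetI false
set_option linter.unusedSectionVars false
set_option backward.isDefEq.respectTransparency false
set_option backward.isDefEq.respectTransparency.types false

universe u

open CategoryTheory Limits Opposite TopologicalSpace

noncomputable section

namespace Groth.Agent.ClosedEmb

open FPLocal

variable {Z X : TopCat.{u}} {i : Z ⟶ X} (hi : Topology.IsClosedEmbedding i)
  {O : TopCat.Sheaf CommRingCat.{u} Z}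
  {O_X : TopCat.Sheaf CommRingCat.{u} X}
  {c : O_X ⟶ ((TopologicalSpace.Opens.map i).sheafPushforwardContinuous CommRingCat.{u}
      (Opens.grothendieckTopology X) (Opens.grothendieckTopology Z)).obj O}
  {G : ModSite.Mod O_X} (hG : Killed c G) (hc : Sheaf.IsLocallySurjective c)

/-- Taking the largest open with given trace, as a functor. -/
def extFunctor : Opens Z ⥤ Opens X where
  obj := ext hi
  map f := homOfLE (ext_mono hi f.le)

/-- The action of functions on the subspace. -/
def act {W : Opens Z} (r : O.obj.obj (op W)) (m : ModSite.sect G (ext hi W)) :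
    ModSite.sect G (ext hi W) :=
  (existsUnique_isAct hi hG hc r m).choose

theorem isAct_act {W : Opens Z} (r : O.obj.obj (op W)) (m : ModSite.sect G (ext hi W)) :
    IsAct hi c G r m (act hi hG hc r m) :=
  (existsUnique_isAct hi hG hc r m).choose_spec.1

theorem act_unique {W : Opens Z} {r : O.obj.obj (op W)} {m n : ModSite.sect G (ext hi W)}
    (h : IsAct hi c G r m n) : act hi hG hc r m = n :=
  ((existsUnique_isAct hi hG hc r m).choose_spec.2 n h).symm

theorem act_one {W : Opens Z} (m : ModSite.sect G (ext hi W)) : act hi hG hc 1 m = m :=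
  act_unique hi hG hc fun U g b hb => by
    rw [map_one] at hb
    exact (one_smul _ _).symm.trans (hG.smul_eq (hb.trans (map_one _).symm).symm _)

theorem act_zero {W : Opens Z} (m : ModSite.sect G (ext hi W)) : act hi hG hc 0 m = 0 :=
  act_unique hi hG hc fun U g b hb => by
    rw [map_zero] at hb
    rw [map_zero, hG U b hb]

theorem act_map_zero {W : Opens Z} (r : O.obj.obj (op W)) :
    act hi hG hc r (0 : ModSite.sect G (ext hi W)) = 0 :=
  act_unique hi hG hc fun U g b hb => by rw [map_zero, smul_zero]

theorem act_map_add {W : Opens Z} (r : O.obj.obj (op W)) (m m' : ModSite.sect G (ext hi W)) :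
    act hi hG hc r (m + m') = act hi hG hc r m + act hi hG hc r m' :=
  act_unique hi hG hc fun U g b hb => by
    rw [map_add, map_add, isAct_act hi hG hc r m U g b hb, isAct_act hi hG hc r m' U g b hb,
      smul_add]

theorem act_add {W : Opens Z} (r r' : O.obj.obj (op W)) (m : ModSite.sect G (ext hi W)) :
    act hi hG hc (r + r') m = act hi hG hc r m + act hi hG hc r' m :=
  act_unique hi hG hc fun U g b hb => by
    refine eq_of_locally (M := G) (locally_of_near (fun A B k l hl => ?_) fun x hx => ?_)
    · rw [mres_comp', hl, ← mres_comp']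
    obtain ⟨V, k, hV, ⟨b₁, hb₁⟩, b₂, hb₂⟩ :=
      (Locally.and (locally_lift hi hc r) (locally_lift hi hc r')).near (g.le hx)
    let V' : Opens X := V ⊓ U
    let k₁ : V' ⟶ V := homOfLE inf_le_left
    let k₂ : V' ⟶ U := homOfLE inf_le_right
    refine ⟨V', k₂, ⟨hV, hx⟩, ?_⟩
    show mres G k₂.op _ = mres G k₂.op _
    have hb' : cmap O_X c V' (ores O_X k₁ b₁ + ores O_X k₁ b₂) = cmap O_X c V' (ores O_X k₂ b) := by
      rw [map_add, ← ores_cmap, ← ores_cmap, ← ores_cmap, hb₁, hb₂, hb, ← ores_comp, ← ores_comp,
        ← ores_comp, map_add]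
      rfl
    have h₁ := congrArg (mres G k₁.op) (isAct_act hi hG hc r m V k b₁ hb₁)
    have h₂ := congrArg (mres G k₁.op) (isAct_act hi hG hc r' m V k b₂ hb₂)
    rw [mres_smul, ← mres_comp', ← mres_comp', mres_eq G _ (k₂ ≫ g) _,
      mres_eq G _ (k₂ ≫ g) m] at h₁ h₂
    rw [map_add, map_add, mres_smul, ← mres_comp', ← mres_comp', ← mres_comp', h₁, h₂]
    refine Eq.trans (add_smul _ _ _).symm ?_
    exact hG.smul_eq hb' _

theorem act_mul {W : Opens Z} (r r' : O.obj.obj (op W)) (m : ModSite.sect G (ext hi W)) :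
    act hi hG hc (r * r') m = act hi hG hc r (act hi hG hc r' m) :=
  act_unique hi hG hc fun U g b hb => by
    refine eq_of_locally (M := G) (locally_of_near (fun A B k l hl => ?_) fun x hx => ?_)
    · rw [mres_comp', hl, ← mres_comp']
    obtain ⟨V, k, hV, ⟨b₁, hb₁⟩, b₂, hb₂⟩ :=
      (Locally.and (locally_lift hi hc r) (locally_lift hi hc r')).near (g.le hx)
    let V' : Opens X := V ⊓ U
    let k₁ : V' ⟶ V := homOfLE inf_le_left
    let k₂ : V' ⟶ U := homOfLE inf_le_right
    refine ⟨V', k₂, ⟨hV, hx⟩, ?_⟩
    show mres G k₂.op _ = mres G k₂.op _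
    have hb' : cmap O_X c V' (ores O_X k₁ b₁ * ores O_X k₁ b₂) = cmap O_X c V' (ores O_X k₂ b) := by
      rw [map_mul, ← ores_cmap, ← ores_cmap, ← ores_cmap, hb₁, hb₂, hb, ← ores_comp, ← ores_comp,
        ← ores_comp, map_mul]
      rfl
    have h₁ := congrArg (mres G k₁.op)
      (isAct_act hi hG hc r (act hi hG hc r' m) V k b₁ hb₁)
    have h₂ := congrArg (mres G k₁.op) (isAct_act hi hG hc r' m V k b₂ hb₂)
    rw [mres_smul, ← mres_comp', ← mres_comp', mres_eq G _ (k₂ ≫ g) _] at h₁ h₂
    rw [mres_eq G (k₁ ≫ k) (k₂ ≫ g) m] at h₂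
    rw [mres_eq G (k₁ ≫ k) (k₂ ≫ g) (act hi hG hc r' m), h₂] at h₁
    rw [mres_smul, ← mres_comp', ← mres_comp', h₁, smul_smul]
    exact hG.smul_eq hb' _

theorem act_res {W W' : Opens Z} (g : W' ⟶ W) (r : O.obj.obj (op W))
    (m : ModSite.sect G (ext hi W)) :
    mres G ((extFunctor hi).map g).op (act hi hG hc r m) =
      act hi hG hc (ores O g r) (mres G ((extFunctor hi).map g).op m) :=
  (act_unique hi hG hc fun U k b hb => by
    refine ((mres_comp' (M := G) k ((extFunctor hi).map g) (act hi hG hc r m)).symm.trans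
      (Eq.trans ?_ (congrArg (fun t : ModSite.sect G U =>
        (show (ModSite.ringSh O_X).obj.obj (op U) from b) • t)
          (mres_comp' (M := G) k ((extFunctor hi).map g) m))))
    refine isAct_act hi hG hc r m U (k ≫ (extFunctor hi).map g) b ?_
    rw [hb, ← ores_comp]
    rfl).symm

/-- The presheaf of sections. -/
def descPresheaf (_ : Killed c G) : (Opens Z)ᵒᵖ ⥤ AddCommGrpCat.{u} :=
  (extFunctor hi).op ⋙ G.val.presheaf

include hc in
/-- The module structure on the sections. -/
@[instance_reducible]
def descModule (W : (Opens Z)ᵒᵖ) :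
    Module ((ModSite.ringSh O).obj.obj W) ((descPresheaf hi hG).obj W) where
  smul r m := act hi hG hc (W := W.unop) r m
  one_smul m := act_one hi hG hc m
  mul_smul r r' m := act_mul hi hG hc r r' m
  smul_zero r := act_map_zero hi hG hc r
  smul_add r m m' := act_map_add hi hG hc r m m'
  add_smul r r' m := act_add hi hG hc r r' m
  zero_smul m := act_zero hi hG hc m

/-- The presheaf of modules of sections. -/
def descVal : PresheafOfModules.{u} (ModSite.ringSh O).obj :=
  @PresheafOfModules.ofPresheaf _ _ (ModSite.ringSh O).obj (descPresheaf hi hG)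
    (descModule hi hG hc) fun _ _ f r m => act_res hi hG hc f.unop r m

include hG in
theorem isSheaf_descPresheaf :
    Presheaf.IsSheaf (Opens.grothendieckTopology Z) (descPresheaf hi hG) := by
  refine (Presheaf.isSheaf_iff_isSheaf_forget _ _ (forget AddCommGrpCat.{u})).2 ?_
  rw [isSheaf_iff_isSheaf_of_type]
  intro W S hS x hx
  classical
  let p : ∀ {U : Opens X}, (U ⟶ ext hi W) → (pre i U ⟶ W) :=
    fun g => homOfLE (pre_le_of_le_ext hi g.le)
  let T : Sieve (ext hi W) :=
    { arrows := fun U g => S.arrows (p g) ∨ pre i U = ⊥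
      downward_closed := fun {U V} f hf k => hf.imp
        (fun h => by
          have e : p (k ≫ f) = (Opens.map i).map k ≫ p f := rfl
          rw [e]
          exact S.downward_closed h _)
        fun h => le_bot_iff.1 (((Opens.map i).map k).le.trans_eq h) }
  have hT : T ∈ Opens.grothendieckTopology X (ext hi W) := fun y hy => by
    rcases cases_point hi y with hyo | ⟨z, rfl⟩
    · exact ⟨ext hi W ⊓ outside hi, homOfLE inf_le_left, Or.inr (pre_eq_bot hi inf_le_right),
        hy, hyo⟩
    · obtain ⟨W', g, hg, hz⟩ := hS z ((mem_ext hi).1 hy z rfl)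
      refine ⟨ext hi W', (extFunctor hi).map g, Or.inl ?_, mem_ext_of_mem hi hz⟩
      have e : p ((extFunctor hi).map g) = homOfLE (pre_le_of_le_ext hi le_rfl) ≫ g := rfl
      rw [e]
      exact S.downward_closed hg _
  let y : Presieve.FamilyOfElements (G.val.presheaf ⋙ forget AddCommGrpCat.{u}) T.arrows :=
    fun U g _ => if h : S.arrows (p g) then
      mres G (homOfLE (le_ext_pre hi U)).op (x (p g) h : ModSite.sect G (ext hi (pre i U)))
    else (0 : ModSite.sect G U)
  have hnat : ∀ {U V : Opens X} (k : V ⟶ U) (g : U ⟶ ext hi W) (h : S.arrows (p g))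
      (h' : S.arrows (p (k ≫ g))),
      mres G ((extFunctor hi).map ((Opens.map i).map k)).op
        (x (p g) h : ModSite.sect G (ext hi (pre i U))) = x (p (k ≫ g)) h' := by
    intro U V k g h h'
    have e := hx ((Opens.map i).map k) (𝟙 (pre i V)) h h' rfl
    refine e.trans ?_
    exact (congrArg (fun f => mres G f (x (p (k ≫ g)) h' : ModSite.sect G (ext hi (pre i V))))
      (Subsingleton.elim _ (𝟙 _))).trans (mres_id _ _)
  have hy : y.Compatible := by
    intro U₁ U₂ V g₁ g₂ f₁ f₂ h₁ h₂ e
    show mres G g₁.op (y f₁ h₁) = mres G g₂.op (y f₂ h₂)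
    by_cases hV : pre i V = ⊥
    · exact (hG.eq_zero hV _).trans (hG.eq_zero hV _).symm
    have a₁ : S.arrows (p f₁) := h₁.resolve_right fun h => hV
      (le_bot_iff.1 (((Opens.map i).map g₁).le.trans_eq h))
    have a₂ : S.arrows (p f₂) := h₂.resolve_right fun h => hV
      (le_bot_iff.1 (((Opens.map i).map g₂).le.trans_eq h))
    have a₃ : S.arrows (p (g₁ ≫ f₁)) := S.downward_closed a₁ ((Opens.map i).map g₁)
    simp only [y, dif_pos a₁, dif_pos a₂]
    rw [← mres_comp', ← mres_comp',
      mres_eq G (g₁ ≫ homOfLE (le_ext_pre hi U₁))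
        (homOfLE (le_ext_pre hi V) ≫ (extFunctor hi).map ((Opens.map i).map g₁)),
      mres_eq G (g₂ ≫ homOfLE (le_ext_pre hi U₂))
        (homOfLE (le_ext_pre hi V) ≫ (extFunctor hi).map ((Opens.map i).map g₂)),
      mres_comp', mres_comp']
    refine congrArg (mres G (homOfLE (le_ext_pre hi V)).op) ?_
    exact (hnat g₁ f₁ a₁ a₃).trans (hnat g₂ f₂ a₂ (by rw [← e]; exact a₃)).symm
  refine ⟨(isSheafType G T hT).amalgamate y hy, fun W' g hg => ?_, fun t ht => ?_⟩
  · have a : S.arrows (p ((extFunctor hi).map g)) :=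
      S.downward_closed hg (homOfLE (pre_le_of_le_ext hi le_rfl) : pre i (ext hi W') ⟶ W')
    refine ((isSheafType G T hT).valid_glue hy ((extFunctor hi).map g) (Or.inl a)).trans ?_
    show y ((extFunctor hi).map g) (Or.inl a) = x g hg
    simp only [y, dif_pos a]
    have e := hx (homOfLE (pre_le_of_le_ext hi le_rfl) : pre i (ext hi W') ⟶ W') (𝟙 _) hg a rfl
    have t₁ : ∀ (f : ext hi (pre i (ext hi W')) ⟶ ext hi W') (m : ModSite.sect G (ext hi W')),
        mres G (homOfLE (le_ext_pre hi (ext hi W'))).op (mres G f.op m) = m :=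
      fun f m => mres_back G f _ m
    refine Eq.trans (congrArg (mres G (homOfLE (le_ext_pre hi (ext hi W'))).op) ?_)
      (t₁ ((extFunctor hi).map (homOfLE (pre_le_of_le_ext hi le_rfl))) (x g hg))
    refine (e.trans ?_).symm
    exact (congrArg (fun f => mres G f (x (p ((extFunctor hi).map g)) a :
      ModSite.sect G (ext hi (pre i (ext hi W'))))) (Subsingleton.elim _ (𝟙 _))).trans (mres_id _ _)
  · refine eq_of_locally (M := G) ⟨T, hT, fun U g hg => ?_⟩
    refine Eq.trans ?_ ((isSheafType G T hT).valid_glue hy g hg).symm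
    show mres G g.op t = y g hg
    by_cases h : S.arrows (p g)
    · simp only [y, dif_pos h]
      rw [← ht (p g) h]
      exact (mres_eq G _ _ _).trans
        (mres_comp' (M := G) (homOfLE (le_ext_pre hi U)) ((extFunctor hi).map (p g)) t)
    · exact (hG.eq_zero (hg.resolve_left h) _).trans (hG.eq_zero (hg.resolve_left h) _).symm

/-- The module on the closed subspace. -/
def desc : ModSite.Mod O where
  val := descVal hi hG hc
  isSheaf := isSheaf_descPresheaf hi hG

/-- The morphism from the pushforward back to the module. -/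
def descHom : pushF (desc hi hG hc) O_X c ⟶ G where
  val := PresheafOfModules.homMk
    { app := fun U => AddCommGrpCat.ofHom
        (mres G (homOfLE (le_ext_pre hi U.unop)).op :
          ModSite.sect G (ext hi (pre i U.unop)) →+ ModSite.sect G U.unop)
      naturality := fun {U V} k => by
        ext n
        have key : ∀ t : ModSite.sect G (ext hi (pre i U.unop)),
            mres G (homOfLE (le_ext_pre hi V.unop)).op
              (mres G (homOfLE (ext_mono hi ((Opens.map i).map k.unop).le) :
                ext hi (pre i V.unop) ⟶ ext hi (pre i U.unop)).op t) = mres G k.unop.op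
                (mres G (homOfLE (le_ext_pre hi U.unop)).op t) := fun t => by
          rw [← mres_comp', ← mres_comp']
          exact mres_eq G _ _ _
        exact key n }
    fun U r n => isAct_act hi hG hc (cmap O_X c U.unop r)
      (n : ModSite.sect G (ext hi (pre i U.unop))) U.unop (homOfLE (le_ext_pre hi U.unop)) r (by
        refine Eq.trans ?_ (congrArg (fun f => (O.obj.map f).hom (cmap O_X c U.unop r))
          (Subsingleton.elim (𝟙 (op (pre i U.unop))) _))
        rw [O.obj.map_id]
        rfl)

theorem descHom_app (U : Opens X) (n : ModSite.sect G (ext hi (pre i U))) :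
    ((descHom hi hG hc).val.app (op U)).hom n = mres G (homOfLE (le_ext_pre hi U)).op n := rfl

theorem isIso_descHom : IsIso (descHom hi hG hc) := by
  have hb := fun U : Opens X => hG.mres_bijective hi (homOfLE (le_ext_pre hi U))
    (pre_le_of_le_ext hi le_rfl)
  refine isIso_of_locally _ (fun U n => Locally.of_self fun V g => ?_)
    fun U m hm => Locally.of_self fun V g => ?_
  · obtain ⟨t, ht⟩ := (hb V).2 (mres G g.op n)
    exact ⟨t, ht⟩
  · have : m = 0 := (hb U).1 (hm.trans (map_zero _).symm)
    rw [this, map_zero]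

include hi hG hc in
theorem essImage_of_killed : (Pu O_X c).essImage G := by
  haveI := isIso_descHom hi hG hc
  exact ⟨desc hi hG hc, ⟨asIso (descHom hi hG hc)⟩⟩

omit hi hG hc in
theorem killed_of_essImage (h : (Pu O_X c).essImage G) : Killed c G := by
  obtain ⟨F, ⟨e⟩⟩ := h
  intro U a ha s
  obtain ⟨t, rfl⟩ : ∃ t : ModSite.sect (pushF F O_X c) U, (e.hom.val.app (op U)).hom t = s :=
    ⟨(e.inv.val.app (op U)).hom s, congrArg (fun f : G ⟶ G => (f.val.app (op U)).hom s) e.inv_hom_id⟩
  rw [← map_smul]
  refine Eq.trans (congrArg _ ?_) (map_zero _)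
  refine (sectEquiv F O_X c U).injective ?_
  rw [sectEquiv_smul, ha]
  exact zero_smul _ _

end Groth.Agent.ClosedEmb
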