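import Groth.Agent.ClosedEmb.Basic
import Groth.Agent.FPLocal.LocFree

/-!
# Modules of finite type along a closed embedding
-/

set_option linter.style.haveILetI false
set_option linter.unusedSectionVars false
set_option backward.isDefEq.respectTransparency false
set_option backward.isDefEq.respectTransparency.types false

universe u

open CategoryTheory Limits Opposite TopologicalSpace

noncomputable section

namespace Groth.Agent.ClosedEmb

open FPLocal

/-- Generation can be checked near every point. -/
theorem gen_of_near {Y : TopCat.{u}} {R : TopCat.Sheaf CommRingCat.{u} Y} {M : ModSite.Mod R}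
    {V : Opens Y} {I : Type u} [Fintype I] {s : I → ModSite.sect M V}
    (h : ∀ ⦃W : Opens Y⦄ (g : W ⟶ V) (m : ModSite.sect M W), ∀ x ∈ W,
      Near x W fun Z k => ∃ a : I → R.obj.obj (op Z),
        comb R M a (fun l => mres M (k ≫ g).op (s l)) = mres M k.op m) :
    Gen M s := by
  intro W g m
  exact locally_of_near (P := fun Z k => ∃ a : I → R.obj.obj (op Z),
      comb R M a (fun l => mres M (k ≫ g).op (s l)) = mres M k.op m)
    (fun Z' Z k' k hk => by
      obtain ⟨a, ha⟩ := hk
      refine ⟨fun l => ores R k' (a l), ?_⟩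
      have e := congrArg (mres M k'.op) ha
      rw [mres_comb, ← mres_comp'] at e
      refine Eq.trans (congrArg _ (funext fun l => ?_)) e
      rw [← mres_comp', Category.assoc]) (h g m)

variable {Z X : TopCat.{u}} {i : Z ⟶ X} (hi : Topology.IsClosedEmbedding i)
  {O : TopCat.Sheaf CommRingCat.{u} Z} (F : ModSite.Mod O)
  (O_X : TopCat.Sheaf CommRingCat.{u} X)
  (c : O_X ⟶ ((TopologicalSpace.Opens.map i).sheafPushforwardContinuous CommRingCat.{u}
      (Opens.grothendieckTopology X) (Opens.grothendieckTopology Z)).obj O)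

include hi

/-- Generators of the pushforward give generators of the module. -/
theorem hasGen_pre {U : Opens X} (h : HasGen (pushF F O_X c) U) : HasGen F (pre i U) := by
  obtain ⟨I, hI, s, hs⟩ := h
  refine ⟨I, hI, fun l => sectEquiv F O_X c U (s l), gen_of_near fun W g m z hz => ?_⟩
  let U' : Opens X := ext hi W ⊓ U
  let g' : U' ⟶ U := homOfLE inf_le_right
  have e : pre i U' ≤ W := fun y hy => (mem_ext hi).1 hy.1 y rfl
  have hz' : i z ∈ U' := ⟨(mem_ext hi).2 fun z' hz' => hi.injective hz' ▸ hz, g.le hz⟩
  obtain ⟨V, k, hV, a, ha⟩ := (Gen.locally_comb (hs.restrict g')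
    ((sectEquiv F O_X c U').symm (mres F (homOfLE e).op m))).near hz'
  let k' : pre i V ⟶ W := (Opens.map i).map k ≫ homOfLE e
  refine ⟨pre i V, k', hV, fun l => cmap O_X c V (a l), ?_⟩
  have ha' := congrArg (sectEquiv F O_X c V) ha
  rw [sectEquiv_comb, sectEquiv_mres, AddEquiv.apply_symm_apply, ← mres_comp'] at ha'
  refine Eq.trans (congrArg _ (funext fun l => ?_)) ha'
  rw [sectEquiv_mres, sectEquiv_mres, ← mres_comp']
  exact congrArg (fun f => mres F f _) (Subsingleton.elim _ _)

/-- Generators of the module give generators of the pushforward. -/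
theorem hasGen_push (hc : Sheaf.IsLocallySurjective c) {U : Opens X}
    (h : HasGen F (pre i U)) : HasGen (pushF F O_X c) U := by
  obtain ⟨I, hI, s, hs⟩ := h
  refine ⟨I, hI, fun l => (sectEquiv F O_X c U).symm (s l), gen_of_near fun W g m x hx => ?_⟩
  rcases cases_point hi x with hxo | ⟨z, rfl⟩
  · exact ⟨W ⊓ outside hi, homOfLE inf_le_left, ⟨hx, hxo⟩, fun _ => 0,
      (sectEquiv F O_X c _).injective ((eq_zero_of_empty F (pre_eq_bot hi inf_le_right) _).trans
        (eq_zero_of_empty F (pre_eq_bot hi inf_le_right) _).symm)⟩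
  · obtain ⟨Z₁, k₁, hz₁, a, ha⟩ := (Gen.locally_comb (hs.restrict ((Opens.map i).map g))
      (sectEquiv F O_X c W m)).near (show z ∈ pre i W from hx)
    let Y : Opens X := W ⊓ ext hi Z₁
    let k₂ : pre i Y ⟶ Z₁ := homOfLE fun y hy => (mem_ext hi).1 hy.2 y rfl
    have hY : i z ∈ Y := ⟨hx, (mem_ext hi).2 fun z' hz' => hi.injective hz' ▸ hz₁⟩
    obtain ⟨Y', k₃, hY', hb⟩ := Near.forall hY
      (P := fun l V k => ∃ b : O_X.obj.obj (op V),
        cmap O_X c V b = ores O ((Opens.map i).map k) (ores O k₂ (a l)))
      (fun l V' V k' k hk => by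
        obtain ⟨b, hb⟩ := hk
        exact ⟨ores O_X k' b, by
          rw [← ores_cmap, hb, Functor.map_comp, ores_comp]⟩)
      (fun l => near_lift O_X c hc (ores O k₂ (a l)) hY)
    choose b hb using hb
    refine ⟨Y', k₃ ≫ homOfLE inf_le_left, hY', b, (sectEquiv F O_X c Y').injective ?_⟩
    rw [sectEquiv_comb, sectEquiv_mres]
    simp only [hb]
    have ha' := congrArg (fun y => mres F ((Opens.map i).map k₃).op (mres F k₂.op y)) ha
    simp only [mres_comb, ← mres_comp'] at ha'
    refine Eq.trans ?_ (ha'.trans (congrArg (fun f => mres F f _) (Subsingleton.elim _ _)))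
    refine congrArg _ (funext fun l => ?_)
    rw [sectEquiv_mres, AddEquiv.apply_symm_apply]
    exact congrArg (fun f => mres F f _) (Subsingleton.elim _ _)

/-- Finite type is preserved and reflected by the pushforward along a closed embedding. -/
theorem isFiniteType_push_iff (hc : Sheaf.IsLocallySurjective c) :
    SheafOfModules.IsFiniteType (R := ModSite.ringSh O_X) (pushF F O_X c) ↔
      SheafOfModules.IsFiniteType (R := ModSite.ringSh O) F := by
  constructor
  · intro h
    haveI := h
    refine isFiniteType_of_hasGen F fun W => ?_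
    refine locally_of_near (P := fun V _ => HasGen F V) (fun V V' k g hV => hV.restrict k)
      fun z hz => ?_
    obtain ⟨U, g, hU, hgen⟩ :=
      (show Locally _ (ext hi W) fun V _ => HasGen (pushF F O_X c) V from
        exists_sieve_hasGen (pushF F O_X c) (ext hi W)).near
        (x := i z) ((mem_ext hi).2 fun z' hz' => hi.injective hz' ▸ hz)
    exact ⟨pre i U, homOfLE fun y hy => (mem_ext hi).1 (g.le hy) y rfl, hU,
      hasGen_pre hi F O_X c hgen⟩
  · intro h
    haveI := h
    refine isFiniteType_of_hasGen (pushF F O_X c) fun U => ?_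
    refine locally_of_near (P := fun V _ => HasGen (pushF F O_X c) V)
      (fun V V' k g hV => hV.restrict k) fun x hx => ?_
    rcases cases_point hi x with hxo | ⟨z, rfl⟩
    · refine ⟨U ⊓ outside hi, homOfLE inf_le_left, ⟨hx, hxo⟩, PEmpty, inferInstance,
        PEmpty.elim, gen_of_near fun W g m y hy => ?_⟩
      exact ⟨W, 𝟙 W, hy, PEmpty.elim, (sectEquiv F O_X c W).injective
        ((eq_zero_of_empty F (pre_eq_bot hi (g.le.trans inf_le_right)) _).trans
          (eq_zero_of_empty F (pre_eq_bot hi (g.le.trans inf_le_right)) _).symm)⟩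
    · obtain ⟨V, g, hV, hgen⟩ :=
        (show Locally _ (pre i U) fun V _ => HasGen F V from
          exists_sieve_hasGen F (pre i U)).near (show z ∈ pre i U from hx)
      exact ⟨U ⊓ ext hi V, homOfLE inf_le_left,
        ⟨hx, (mem_ext hi).2 fun z' hz' => hi.injective hz' ▸ hV⟩,
        hasGen_push hi F O_X c hc
          (hgen.restrict (homOfLE fun y hy => (mem_ext hi).1 hy.2 y rfl))⟩

end Groth.Agent.ClosedEmb
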