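import Groth.Agent.ClosedEmb.Basic
import Groth.Agent.FPLocal.Glue
import Groth.Agent.FPLocal.EpiFree

/-!
# Pushforward of modules along a closed embedding is exact and fully faithful
-/

set_option linter.style.haveILetI false
set_option linter.unusedSectionVars false
set_option backward.isDefEq.respectTransparency false
set_option backward.isDefEq.respectTransparency.types false

universe u

open CategoryTheory Limits Opposite TopologicalSpace

noncomputable section

namespace Groth.Agent.ClosedEmb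

open FPLocal

theorem mres_back {Y : TopCat.{u}} {R : TopCat.Sheaf CommRingCat.{u} Y} (M : ModSite.Mod R)
    {U V : Opens Y} (g : V ⟶ U) (g' : U ⟶ V) (m : ModSite.sect M U) :
    mres M g'.op (mres M g.op m) = m := by
  rw [← mres_comp', Subsingleton.elim (g' ≫ g) (𝟙 U), op_id, mres_id]

theorem mres_eq {Y : TopCat.{u}} {R : TopCat.Sheaf CommRingCat.{u} Y} (M : ModSite.Mod R)
    {U V : Opens Y} (g g' : V ⟶ U) (m : ModSite.sect M U) : mres M g.op m = mres M g'.op m := by
  rw [Subsingleton.elim g g']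

variable {Z X : TopCat.{u}} {i : Z ⟶ X} (hi : Topology.IsClosedEmbedding i)
  {O : TopCat.Sheaf CommRingCat.{u} Z}
  (O_X : TopCat.Sheaf CommRingCat.{u} X)
  (c : O_X ⟶ ((TopologicalSpace.Opens.map i).sheafPushforwardContinuous CommRingCat.{u}
      (Opens.grothendieckTopology X) (Opens.grothendieckTopology Z)).obj O)

/-- The pushforward functor. -/
abbrev Pu : ModSite.Mod O ⥤ ModSite.Mod O_X :=
  (ModSite.RMor.ofFlat (TopologicalSpace.Opens.map i) c).push

theorem app_pushMap {F G : ModSite.Mod O} (g : F ⟶ G) (U : Opens X)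
    (m : ModSite.sect (pushF F O_X c) U) :
    sectEquiv G O_X c U ((((Pu O_X c).map g).val.app (op U)).hom m) =
      (g.val.app (op (pre i U))).hom (sectEquiv F O_X c U m) := rfl

include hi

theorem mem_ext_of_mem {W : Opens Z} {z : Z} (hz : z ∈ W) : i z ∈ ext hi W :=
  (mem_ext hi).2 fun _ h => hi.injective h ▸ hz

theorem pre_le_of_le_ext {W : Opens Z} {U : Opens X} (h : U ≤ ext hi W) : pre i U ≤ W :=
  fun y hy => (mem_ext hi).1 (h hy) y rfl

theorem epi_push_map {F G : ModSite.Mod O} (g : F ⟶ G) [Epi g] : Epi ((Pu O_X c).map g) := by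
  refine epi_of_exists_preimage _ fun W n => ?_
  refine locally_of_near (P := fun V k => ∃ t : ModSite.sect (pushF F O_X c) V,
      (((Pu O_X c).map g).val.app (op V)).hom t = mres (pushF G O_X c) k.op n)
    (fun V' V k' k ⟨t, ht⟩ => ⟨mres (pushF F O_X c) k'.op t, by
      rw [mres_comp', ← ht, app_mres]⟩) fun x hx => ?_
  rcases cases_point hi x with hxo | ⟨z, rfl⟩
  · exact ⟨W ⊓ outside hi, homOfLE inf_le_left, ⟨hx, hxo⟩, 0, (sectEquiv G O_X c _).injective
      ((eq_zero_of_empty G (pre_eq_bot hi inf_le_right) _).trans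
        (eq_zero_of_empty G (pre_eq_bot hi inf_le_right) _).symm)⟩
  · obtain ⟨Z₁, k₁, hz₁, t, ht⟩ :=
      (locally_preimage g (sectEquiv G O_X c W n)).near (show z ∈ pre i W from hx)
    let Y : Opens X := W ⊓ ext hi Z₁
    let k₂ : pre i Y ⟶ Z₁ := homOfLE (pre_le_of_le_ext hi inf_le_right)
    refine ⟨Y, homOfLE inf_le_left, ⟨hx, mem_ext_of_mem hi hz₁⟩,
      (sectEquiv F O_X c Y).symm (mres F k₂.op t), (sectEquiv G O_X c Y).injective ?_⟩
    rw [app_pushMap, AddEquiv.apply_symm_apply, app_mres, ht, ← mres_comp', sectEquiv_mres]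
    exact mres_eq G _ _ _

theorem preservesFiniteColimits_push : PreservesFiniteColimits (Pu O_X c) := by
  haveI : PreservesFiniteLimits (Pu O_X c) :=
    haveI : PreservesLimitsOfSize.{0, 0} (Pu O_X c) :=
      (ModSite.RMor.adj (ModSite.RMor.ofFlat (TopologicalSpace.Opens.map i) c)).rightAdjoint_preservesLimits
    inferInstance
  have h := (Pu O_X c).preservesFiniteColimits_iff_forall_exact_map_and_epi
  refine h.2 fun S hS => ?_
  haveI := hS.epi_g
  refine ⟨?_, epi_push_map hi O_X c S.g⟩
  haveI := hS.mono_f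
  exact ((Pu O_X c).preservesFiniteLimits_iff_forall_exact_map_and_mono.1 inferInstance S hS).1

theorem faithful_push : (Pu O_X c).Faithful := by
  refine ⟨fun {F G} f g h => ?_⟩
  ext ⟨W⟩ m
  let k : pre i (ext hi W) ⟶ W := homOfLE (pre_le_of_le_ext hi le_rfl)
  let k' : W ⟶ pre i (ext hi W) := homOfLE (pre_ext hi W).ge
  have e : (f.val.app (op (pre i (ext hi W)))).hom (mres F k.op m) =
      (g.val.app (op (pre i (ext hi W)))).hom (mres F k.op m) :=
    congrArg (fun φ : pushF F O_X c ⟶ pushF G O_X c => sectEquiv G O_X c _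
      ((φ.val.app (op (ext hi W))).hom ((sectEquiv F O_X c _).symm (mres F k.op m)))) h
  have e' := congrArg (mres G k'.op) e
  rw [← app_mres, ← app_mres, mres_back] at e'
  exact e'

omit hi

/-- A morphism of pushforwards on sections. -/
def onSect {F G : ModSite.Mod O} (φ : pushF F O_X c ⟶ pushF G O_X c) (U : Opens X) :
    ModSite.sect F (pre i U) →+ ModSite.sect G (pre i U) :=
  (sectEquiv G O_X c U).toAddMonoidHom.comp
    ((φ.val.app (op U)).hom.toAddMonoidHom.comp (sectEquiv F O_X c U).symm.toAddMonoidHom)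

theorem app_eq_onSect {F G : ModSite.Mod O} (φ : pushF F O_X c ⟶ pushF G O_X c) (U : Opens X)
    (m : ModSite.sect (pushF F O_X c) U) :
    sectEquiv G O_X c U ((φ.val.app (op U)).hom m) =
      onSect O_X c φ U (sectEquiv F O_X c U m) := rfl

theorem onSect_mres {F G : ModSite.Mod O} (φ : pushF F O_X c ⟶ pushF G O_X c) {U V : Opens X}
    (g : V ⟶ U) (m : ModSite.sect F (pre i U)) :
    onSect O_X c φ V (mres F ((Opens.map i).map g).op m) =
      mres G ((Opens.map i).map g).op (onSect O_X c φ U m) :=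
  congrArg (sectEquiv G O_X c V) (app_mres φ g ((sectEquiv F O_X c U).symm m))

theorem onSect_smul {F G : ModSite.Mod O} (φ : pushF F O_X c ⟶ pushF G O_X c) {U : Opens X}
    (b : O_X.obj.obj (op U)) (m : ModSite.sect F (pre i U)) :
    onSect O_X c φ U ((show (ModSite.ringSh O).obj.obj (op (pre i U)) from cmap O_X c U b) • m) =
      (show (ModSite.ringSh O).obj.obj (op (pre i U)) from cmap O_X c U b) • onSect O_X c φ U m :=
  congrArg (sectEquiv G O_X c U)
    (map_smul (φ.val.app (op U)).hom (show (ModSite.ringSh O_X).obj.obj (op U) from b)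
      ((sectEquiv F O_X c U).symm m))

include hi

theorem onSect_smul' (hc : Sheaf.IsLocallySurjective c) {F G : ModSite.Mod O}
    (φ : pushF F O_X c ⟶ pushF G O_X c) (U : Opens X) (r : (ModSite.ringSh O).obj.obj (op (pre i U)))
    (m : ModSite.sect F (pre i U)) :
    onSect O_X c φ U (r • m) = r • onSect O_X c φ U m := by
  refine eq_of_locally (M := G) (locally_of_near (fun A B l g hg => ?_) fun z hz => ?_)
  · rw [mres_comp', hg, ← mres_comp']
  obtain ⟨U', g, hU', b, hb⟩ := near_lift O_X c hc (show O.obj.obj (op (pre i U)) from r)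
    (show i z ∈ U from hz)
  refine ⟨pre i U', (Opens.map i).map g, hU', ?_⟩
  show mres G ((Opens.map i).map g).op (onSect O_X c φ U (r • m)) =
    mres G ((Opens.map i).map g).op (r • onSect O_X c φ U m)
  rw [← onSect_mres, mres_smul, mres_smul, ← onSect_mres]
  have e : ((ModSite.ringSh O).obj.map ((Opens.map i).map g).op).hom r =
      (show (ModSite.ringSh O).obj.obj (op (pre i U')) from cmap O_X c U' b) := hb.symm
  rw [e, onSect_smul]

/-- The graph of the morphism inducing a morphism of pushforwards. -/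
def onGraph {F G : ModSite.Mod O} (φ : pushF F O_X c ⟶ pushF G O_X c) (V : Opens Z)
    (m : ModSite.sect F V) (n : ModSite.sect G V) : Prop :=
  ∀ (U : Opens X) (h : pre i U ⟶ V), onSect O_X c φ U (mres F h.op m) = mres G h.op n

theorem onGraph_total {F G : ModSite.Mod O} (φ : pushF F O_X c ⟶ pushF G O_X c) (W : Opens Z)
    (m : ModSite.sect F W) : ∃ n, onGraph O_X c φ W m n := by
  let k : pre i (ext hi W) ⟶ W := homOfLE (pre_le_of_le_ext hi le_rfl)
  let k' : W ⟶ pre i (ext hi W) := homOfLE (pre_ext hi W).ge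
  refine ⟨mres G k'.op (onSect O_X c φ _ (mres F k.op m)), fun U h => ?_⟩
  have hle : U ≤ ext hi W := (le_ext_pre hi U).trans (ext_mono hi h.le)
  have e := onSect_mres O_X c φ (homOfLE hle) (mres F k.op m)
  rw [← mres_comp'] at e ⊢
  refine Eq.trans (congrArg (onSect O_X c φ U) (mres_eq F _ _ _)) (e.trans ?_)
  exact mres_eq G _ _ _

theorem onGraph_unique {F G : ModSite.Mod O} (φ : pushF F O_X c ⟶ pushF G O_X c) (V : Opens Z)
    (m : ModSite.sect F V) (n n' : ModSite.sect G V) (h : onGraph O_X c φ V m n)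
    (h' : onGraph O_X c φ V m n') : n = n' := by
  let k : pre i (ext hi V) ⟶ V := homOfLE (pre_le_of_le_ext hi le_rfl)
  let k' : V ⟶ pre i (ext hi V) := homOfLE (pre_ext hi V).ge
  have e := congrArg (mres G k'.op) ((h _ k).symm.trans (h' _ k))
  rwa [mres_back, mres_back] at e

theorem onGraph_smul (hc : Sheaf.IsLocallySurjective c) {F G : ModSite.Mod O}
    (φ : pushF F O_X c ⟶ pushF G O_X c) (V : Opens Z) (r : (ModSite.ringSh O).obj.obj (op V))
    (m : ModSite.sect F V) (n : ModSite.sect G V) (h : onGraph O_X c φ V m n) :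
    onGraph O_X c φ V (r • m) (r • n) := fun U k => by
  rw [mres_smul, mres_smul, onSect_smul' hi O_X c hc, h U k]

omit hi in
theorem onGraph_res {F G : ModSite.Mod O} (φ : pushF F O_X c ⟶ pushF G O_X c) {V W : Opens Z}
    (g : W ⟶ V) (m : ModSite.sect F V) (n : ModSite.sect G V) (h : onGraph O_X c φ V m n) :
    onGraph O_X c φ W (mres F g.op m) (mres G g.op n) := fun U k => by
  rw [← mres_comp', ← mres_comp']; exact h U (k ≫ g)

omit hi in
theorem onGraph_add {F G : ModSite.Mod O} (φ : pushF F O_X c ⟶ pushF G O_X c) (V : Opens Z)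
    (m m' : ModSite.sect F V) (n n' : ModSite.sect G V) (h : onGraph O_X c φ V m n)
    (h' : onGraph O_X c φ V m' n') : onGraph O_X c φ V (m + m') (n + n') := fun U k => by
  rw [map_add, map_add, map_add, h U k, h' U k]

theorem full_push (hc : Sheaf.IsLocallySurjective c) : (Pu O_X c).Full := by
  refine ⟨fun {F G} φ => ?_⟩
  obtain ⟨ψ, hψ⟩ := exists_hom_of_graph (M := F) (N := G) (onGraph O_X c φ)
    (fun V W g m n h => onGraph_res O_X c φ g m n h)
    (fun V m m' n n' h h' => onGraph_add O_X c φ V m m' n n' h h')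
    (fun V r m n h => onGraph_smul hi O_X c hc φ V r m n h)
    (fun V m n n' h h' => onGraph_unique hi O_X c φ V m n n' h h')
    (fun V m => Locally.of_self fun W g => onGraph_total hi O_X c φ W (mres F g.op m))
  refine ⟨ψ, ?_⟩
  refine SheafOfModules.Hom.ext (PresheafOfModules.hom_ext ?_)
  rintro ⟨U⟩
  ext m
  refine (sectEquiv G O_X c U).injective ?_
  rw [app_pushMap, app_eq_onSect]
  refine hψ (pre i U) _ _ fun U' h => ?_
  let g₁ : U' ⊓ U ⟶ U' := homOfLE inf_le_left
  let g₂ : U' ⊓ U ⟶ U := homOfLE inf_le_right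
  have hle : pre i U' ≤ pre i (U' ⊓ U) := fun y hy => ⟨hy, h.le hy⟩
  have e₁ := onSect_mres O_X c φ g₁ (mres F h.op (sectEquiv F O_X c U m))
  rw [← mres_comp', mres_eq F _ ((Opens.map i).map g₂) _, onSect_mres] at e₁
  have e := congrArg (mres G (homOfLE hle).op) e₁
  rw [mres_back, ← mres_comp'] at e
  exact e.symm.trans (mres_eq G _ _ _)

end Groth.Agent.ClosedEmb
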